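import Cfsg.Agent.Lib.Root.Graph

/-! Sets of abstract root subgroups not necessarily generating the ambient group; connectivity components. -/

set_option autoImplicit false

namespace Cfsg.Lib.Root
open Subgroup Cfsg.Lib.Transfer Relation
open scoped Cfsg.Lib.Transfer commutatorElement

variable {G : Type*} [Group G] {A B C D : Subgroup G} {S : Set (Subgroup G)}

theorem CC.of_map {H : Type*} [Group H] {f : G →* H} (hf : Function.Injective f)
    (h : CC (A.map f) (B.map f) (C.map f)) : CC A B C := by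
  have cm : ∀ {X Y : Subgroup G}, Cm (X.map f) (Y.map f) → Cm X Y := fun h x hx y hy =>
    hf (by rw [map_mul, map_mul]; exact h _ ⟨x, hx, rfl⟩ _ ⟨y, hy, rfl⟩)
  refine ⟨map_injective hf (by rw [map_commutator, h.eq]), fun e => h.ne_bot (by rw [e, Subgroup.map_bot]), cm h.aa, cm h.bb,
    cm h.ca, cm h.cb, fun a ha h1 c hc => ?_, fun b hb h1 c hc => ?_⟩
  · obtain ⟨_, ⟨b, hb, rfl⟩, e⟩ := h.right _ ⟨a, ha, rfl⟩ (fun e => h1 (hf (by rw [e, map_one]))) _ ⟨c, hc, rfl⟩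
    exact ⟨b, hb, hf (by rw [map_commutatorElement, e])⟩
  · obtain ⟨_, ⟨a, ha, rfl⟩, e⟩ := h.left _ ⟨b, hb, rfl⟩ (fun e => h1 (hf (by rw [e, map_one]))) _ ⟨c, hc, rfl⟩
    exact ⟨a, ha, hf (by rw [map_commutatorElement, e])⟩

theorem CC.subgroupOf (h : CC A B C) {K : Subgroup G} (hA : A ≤ K) (hB : B ≤ K) :
    CC (A.subgroupOf K) (B.subgroupOf K) (C.subgroupOf K) := by
  refine CC.of_map K.subtype_injective ?_
  rwa [subgroupOf_map_subtype, subgroupOf_map_subtype, subgroupOf_map_subtype, inf_eq_left.2 hA, inf_eq_left.2 hB,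
    inf_eq_left.2 (h.le_sup.trans (sup_le hA hB))]

theorem commutator_sup_le' {L N : Subgroup G} (hA : A ≤ normalizer (N : Set G)) (hB : B ≤ normalizer (N : Set G))
    (h1 : ⁅A, L⁆ ≤ N) (h2 : ⁅B, L⁆ ≤ N) : ⁅A ⊔ B, L⁆ ≤ N := by
  rw [← closure_eq A, ← closure_eq B, ← Subgroup.closure_union]
  refine commutator_closure_le ?_
  rintro x (hx | hx)
  · exact ⟨hA hx, fun l hl => h1 (commutator_mem_commutator hx hl)⟩
  · exact ⟨hB hx, fun l hl => h2 (commutator_mem_commutator hx hl)⟩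

theorem le_iSup_mem (hA : A ∈ S) : A ≤ ⨆ B ∈ S, B := le_iSup₂_of_le (f := fun A (_ : A ∈ S) => A) A hA le_rfl

theorem iSup_induction_left {p : G → Prop} (h1 : p 1) (hm : ∀ A ∈ S, ∀ a ∈ A, ∀ g, p g → p (a * g)) {g : G}
    (hg : g ∈ ⨆ B ∈ S, B) : p g := by
  have : (⨆ B ∈ S, B) = closure {a | ∃ A ∈ S, a ∈ A} := by
    refine le_antisymm (iSup₂_le fun A hA a ha => subset_closure ⟨A, hA, ha⟩) ((closure_le _).2 ?_)
    rintro a ⟨A, hA, ha⟩
    exact le_iSup_mem hA ha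
  rw [this] at hg
  induction hg using closure_induction_left with
  | one => exact h1
  | mul_left x hx y _ ih => obtain ⟨A, hA, ha⟩ := hx; exact hm A hA x ha y ih
  | inv_mul_cancel x hx y _ ih => obtain ⟨A, hA, ha⟩ := hx; exact hm A hA _ (inv_mem ha) y ih

/-- local axioms for a set of root subgroups without isolated vertices. -/
structure LRS (S : Set (Subgroup G)) : Prop where
  cm : ∀ A ∈ S, Cm A A
  conj : ∀ A ∈ S, ∀ a ∈ A, ∀ B ∈ S, a ⋆ B ∈ S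
  tri : ∀ A ∈ S, ∀ B ∈ S, Cm A B ∨ IsRankOnePair A B ∨ ∃ C ∈ S, CC A B C
  hasP : ∀ A ∈ S, HasP S A

/-- the members of `S` viewed inside the group they generate. -/
abbrev loc (S : Set (Subgroup G)) : Set (Subgroup ↥(⨆ B ∈ S, B)) := (fun A : Subgroup G => A.subgroupOf (⨆ B ∈ S, B)) '' S

theorem loc_map (hA : A ∈ S) : (A.subgroupOf (⨆ B ∈ S, B)).map (⨆ B ∈ S, B).subtype = A := by
  rw [subgroupOf_map_subtype, inf_eq_left.2 (le_iSup_mem hA)]

theorem LRS.conj' (h : LRS S) {g : G} (hg : g ∈ ⨆ B ∈ S, B) (hB : B ∈ S) : g ⋆ B ∈ S :=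
  iSup_induction_left (p := fun g => g ⋆ B ∈ S) (by rwa [conj_one]) (fun A hA a ha g ih => by
    rw [← conj_conj]; exact h.conj A hA a ha _ ih) hg

theorem conj_subgroupOf {K : Subgroup G} (g : K) (hA : A ≤ K) (hgA : (g : G) ⋆ A ≤ K) :
    g ⋆ A.subgroupOf K = ((g : G) ⋆ A).subgroupOf K := by
  apply map_injective K.subtype_injective
  rw [map_conj, subgroupOf_map_subtype, subgroupOf_map_subtype, inf_eq_left.2 hA, inf_eq_left.2 hgA]
  rfl

theorem LRS.rootSet (h : LRS S) : IsRootSubgroupSet (loc S) := by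
  refine ⟨?_, ?_, ?_, ?_, ?_⟩
  · rintro _ ⟨A, hA, rfl⟩
    exact cm_self_iff.1 fun a ha b hb => Subtype.ext (h.cm A hA _ ha _ hb)
  · rintro _ ⟨A, hA, rfl⟩ e
    obtain ⟨D, -, hD⟩ := h.hasP A hA
    exact r1_ne_bot hD (by rw [← loc_map hA]; simp only at e; rw [e, Subgroup.map_bot])
  · apply map_injective (⨆ B ∈ S, B).subtype_injective
    rw [← MonoidHom.range_eq_map, subtype_range, iSup_image]
    simp only [Subgroup.map_iSup]
    exact iSup_congr fun A => iSup_congr fun hA => loc_map hA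
  · rintro _ ⟨A, hA, rfl⟩ g
    exact ⟨_, h.conj' g.2 hA, (conj_subgroupOf g (le_iSup_mem hA) (le_iSup_mem (h.conj' g.2 hA))).symm⟩
  · rintro _ ⟨A, hA, rfl⟩ _ ⟨B, hB, rfl⟩
    rcases h.tri A hA B hB with h1 | h1 | ⟨C, hC, h1⟩
    · exact Or.inl (cm_iff.2 fun a ha b hb => Subtype.ext (h1 _ ha _ hb))
    · exact Or.inr (Or.inl (r1_subgroupOf h1 (le_iSup_mem hA) (le_iSup_mem hB)))
    · exact Or.inr (Or.inr ((h1.subgroupOf (le_iSup_mem hA) (le_iSup_mem hB)).case ⟨C, hC, rfl⟩))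

theorem LRS.loc_hasP (h : LRS S) (hA : A ∈ S) : HasP (loc S) (A.subgroupOf _) := by
  obtain ⟨D, hD, h1⟩ := h.hasP A hA
  exact ⟨_, ⟨D, hD, rfl⟩, r1_subgroupOf h1 (le_iSup_mem hA) (le_iSup_mem hD)⟩

theorem freach_of_loc {X Y : Subgroup ↥(⨆ B ∈ S, B)} (h : ReflTransGen (FAdj (loc S)) X Y) :
    ReflTransGen (FAdj S) (X.map (⨆ B ∈ S, B).subtype) (Y.map (⨆ B ∈ S, B).subtype) := by
  induction h with
  | refl => rfl
  | tail _ h ih =>
    obtain ⟨⟨A, hA, rfl⟩, ⟨B, hB, rfl⟩, h⟩ := h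
    refine ih.tail ⟨?_, ?_, r1_map (Subgroup.subtype_injective _) h⟩
    · rw [loc_map hA]; exact hA
    · rw [loc_map hB]; exact hB

theorem LRS.freach_conj (h : LRS S) (hA : A ∈ S) {g : G} (hg : g ∈ ⨆ B ∈ S, B) : ReflTransGen (FAdj S) A (g ⋆ A) := by
  have := freach_of_loc (Root.freach_conj h.rootSet ⟨A, hA, rfl⟩ (h.loc_hasP hA) ⟨g, hg⟩)
  rwa [map_conj, loc_map hA] at this

theorem LRS.freach_cc (h : LRS S) (hA : A ∈ S) (hB : B ∈ S) (hC : C ∈ S) (hc : CC A B C) : ReflTransGen (FAdj S) A C := by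
  have := freach_of_loc (freach_of_line h.rootSet ⟨A, hA, rfl⟩ (h.loc_hasP hA) (h.loc_hasP hC)
    ((hc.subgroupOf (le_iSup_mem hA) (le_iSup_mem hB)).line h.rootSet ⟨A, hA, rfl⟩ (h.loc_hasP hA) ⟨C, hC, rfl⟩))
  rwa [loc_map hA, loc_map hC] at this

/-- the component of `A`. -/
abbrev comp (S : Set (Subgroup G)) (A : Subgroup G) : Set (Subgroup G) := componentOf (FAdj S) S A

theorem comp_self (hA : A ∈ S) : A ∈ comp S A := ⟨hA, .refl⟩
theorem comp_r1 (hB : B ∈ comp S A) (hC : C ∈ S) (h : IsRankOnePair B C) : C ∈ comp S A := ⟨hC, hB.2.tail ⟨hB.1, hC, h⟩⟩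
theorem comp_eq (hB : B ∈ comp S A) : comp S B = comp S A :=
  Set.ext fun _ => ⟨fun h => ⟨h.1, hB.2.trans h.2⟩, fun h => ⟨h.1, (freach_symm hB.2).trans h.2⟩⟩
theorem comp_le : (⨆ B ∈ comp S A, B) ≤ ⨆ B ∈ S, B := biSup_mono fun _ h => h.1

theorem LRS.comp_conj (h : LRS S) (hB : B ∈ comp S A) {g : G} (hg : g ∈ ⨆ B ∈ S, B) : g ⋆ B ∈ comp S A :=
  ⟨h.conj' hg hB.1, hB.2.trans (h.freach_conj hB.1 hg)⟩

theorem LRS.comp_cc (h : LRS S) (hB : B ∈ comp S A) (hC : C ∈ S) (hD : D ∈ S) (hc : CC B C D) :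
    D ∈ comp S A ∧ C ∈ comp S A :=
  ⟨⟨hD, hB.2.trans (h.freach_cc hB.1 hC hD hc)⟩, hC,
    (hB.2.trans (h.freach_cc hB.1 hC hD hc)).trans (freach_symm (h.freach_cc hC hB.1 hD hc.symm))⟩

theorem LRS.cm_of_not_mem (h : LRS S) (hB : B ∈ comp S A) (hC : C ∈ S) (hn : C ∉ comp S A) : Cm B C := by
  rcases h.tri B hB.1 C hC with h1 | h1 | ⟨D, hD, h1⟩
  · exact h1
  · exact absurd (comp_r1 hB hC h1) hn
  · exact absurd (h.comp_cc hB hC hD h1).2 hn

theorem cm_iSup_left {T : Set (Subgroup G)} (h : ∀ A ∈ T, Cm A B) : Cm (⨆ A ∈ T, A) B :=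
  cm_iff_le.2 (iSup₂_le fun A hA => cm_iff_le.1 (h A hA))

theorem LRS.cm_comp (h : LRS S) (hne : comp S A ≠ comp S B) : Cm (⨆ X ∈ comp S A, X) (⨆ X ∈ comp S B, X) :=
  cm_iSup_left fun _ hX => (cm_iSup_left fun _ hY => (h.cm_of_not_mem hX hY.1 fun hn =>
    hne (by rw [← comp_eq hn, comp_eq hY])).symm).symm

theorem LRS.comp (h : LRS S) (A : Subgroup G) : LRS (comp S A) := by
  refine ⟨fun B hB => h.cm B hB.1, fun B hB b hb C hC => h.comp_conj hC (le_iSup_mem hB.1 hb), fun B hB C hC => ?_,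
    fun B hB => ?_⟩
  · rcases h.tri B hB.1 C hC.1 with h1 | h1 | ⟨D, hD, h1⟩
    · exact Or.inl h1
    · exact Or.inr (Or.inl h1)
    · exact Or.inr (Or.inr ⟨D, (h.comp_cc hB hC.1 hD h1).1, h1⟩)
  · obtain ⟨D, hD, h1⟩ := h.hasP B hB.1
    exact ⟨D, comp_r1 hB hD h1, h1⟩

theorem LRS.comp_class (h : LRS S) (hA : A ∈ S) : IsRootSubgroupClass (loc (Root.comp S A)) := by
  refine class_of_connected (h.comp A).rootSet ⟨A, comp_self hA, rfl⟩ ?_
  have key : ∀ B, ReflTransGen (FAdj S) A B → ReflTransGen (FAdj (loc (Root.comp S A))) (A.subgroupOf _) (B.subgroupOf _) := by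
    intro B hB
    induction hB with
    | refl => rfl
    | @tail X Y h1 h2 ih =>
      have hX : X ∈ Root.comp S A := ⟨h2.1, h1⟩
      have hY : Y ∈ Root.comp S A := ⟨h2.2.1, h1.tail h2⟩
      exact ih.tail ⟨⟨X, hX, rfl⟩, ⟨Y, hY, rfl⟩, r1_subgroupOf h2.2.2 (le_iSup_mem hX) (le_iSup_mem hY)⟩
  rintro _ ⟨X, hX, rfl⟩ _ ⟨Y, hY, rfl⟩
  exact (freach_symm (key X hX.2)).trans (key Y hY.2)

theorem comp_le_of_le {N : Subgroup G} (hN : (⨆ X ∈ comp S A, X) ≤ normalizer (N : Set G)) (hB : B ∈ comp S A)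
    (hle : B ≤ N) : (⨆ X ∈ comp S A, X) ≤ N := by
  rw [← comp_eq hB] at hN ⊢
  refine iSup₂_le fun X ⟨hX, h⟩ => ?_
  induction h with
  | refl => exact hle
  | @tail X Y h1 h2 ih =>
    obtain ⟨x, hx, e⟩ := exists_swap h2.2.2
    have hx' := hN (sup_le (le_iSup_mem (S := comp S B) ⟨h2.1, h1⟩) (le_iSup_mem (S := comp S B) ⟨hX, h1.tail h2⟩) hx)
    rw [← e]
    rintro _ ⟨y, hy, rfl⟩
    exact (mem_normalizer_iff.1 hx' y).1 (ih ⟨h2.1, h1⟩ h2.1 hy)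

/-- A subgroup normalized by `⟨comp⟩` and containing no member of the component preserves commutation. -/
theorem LRS.cm_conj_of_not_le (h : LRS S) (hperf : ∀ X ∈ S, ∀ Y ∈ S, IsRankOnePair X Y → X ≤ ⁅X ⊔ Y, X ⊔ Y⁆)
    {N : Subgroup G} (hle : N ≤ ⨆ X ∈ Root.comp S A, X) (hN : (⨆ X ∈ Root.comp S A, X) ≤ normalizer (N : Set G))
    (hne : ¬ (⨆ X ∈ Root.comp S A, X) ≤ N) {n : G} (hn : n ∈ N) (hB : B ∈ S) (hC : C ∈ S) (hc : Cm B C) :
    Cm (n ⋆ B) C := by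
  by_cases h1 : B ∈ Root.comp S A
  swap
  · rwa [(cm_iSup_left fun X hX => h.cm_of_not_mem hX hB h1).conj_eq (hle hn)]
  have h2 := h.comp_conj h1 (comp_le (hle hn))
  by_cases h3 : C ∈ Root.comp S A
  swap
  · exact h.cm_of_not_mem h2 hC h3
  have n1 := (le_iSup_mem h1).trans hN
  have n2 := (le_iSup_mem h2).trans hN
  have n3 := (le_iSup_mem h3).trans hN
  have key : ⁅n ⋆ B, C⁆ ≤ N := by
    rw [commutator_le]
    rintro _ ⟨b, hb, rfl⟩ c hcC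
    have e : ⁅(MulAut.conj n).toMonoidHom b, c⁆ = (n * (b * n⁻¹ * b⁻¹)) * (c * (n * (b * n⁻¹ * b⁻¹))⁻¹ * c⁻¹) := by
      have := hc b hb c hcC
      simp only [commutatorElement_def, MulEquiv.coe_toMonoidHom, MulAut.conj_apply]
      calc _ = n * b * n⁻¹ * b⁻¹ * (b * c) * n * b⁻¹ * n⁻¹ * c⁻¹ := by group
        _ = _ := by rw [this]; group
    have m : n * (b * n⁻¹ * b⁻¹) ∈ N := mul_mem hn ((mem_normalizer_iff.1 (n1 hb) _).1 (inv_mem hn))
    rw [e]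
    exact mul_mem m ((mem_normalizer_iff.1 (n3 hcC) _).1 (inv_mem m))
  rcases h.tri _ h2.1 C hC with h4 | h4 | ⟨D, hD, h4⟩
  · exact h4
  · refine absurd (comp_le_of_le hN h2 ((hperf _ h2.1 C hC h4).trans ?_)) hne
    refine commutator_sup_le' n2 n3 ?_ ?_ <;> rw [commutator_comm] <;> refine commutator_sup_le' n2 n3 ?_ ?_
    · rw [cm_iff.2 (h.cm _ h2.1)]; exact bot_le
    · rw [commutator_comm]; exact key
    · exact key
    · rw [cm_iff.2 (h.cm _ hC)]; exact bot_le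
  · exact absurd (comp_le_of_le hN (h.comp_cc h2 hC hD h4).1 (h4.eq ▸ key)) hne

end Cfsg.Lib.Root
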