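import Cfsg.Agent.Lib.Root.Lines

/-!
The graphs attached to a set of abstract root subgroups; non-degenerate classes.
-/

set_option autoImplicit false

namespace Cfsg.Lib.Root

open Subgroup Cfsg.Lib.Transfer Relation
open scoped Cfsg.Lib.Transfer commutatorElement

variable {G : Type*} [Group G] {A B C D E F P Q R : Subgroup G} {S : Set (Subgroup G)}

theorem freach_symm (h : ReflTransGen (FAdj S) A B) : ReflTransGen (FAdj S) B A := by
  induction h with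
  | refl => exact .refl
  | tail _ h ih => exact .head ⟨h.2.1, h.1, r1_symm h.2.2⟩ ih

theorem freach_single (hA : A ∈ S) (hB : B ∈ S) (h : IsRankOnePair A B) :
    ReflTransGen (FAdj S) A B := .single ⟨hA, hB, h⟩

theorem freach_exists_conj (h : ReflTransGen (FAdj S) A B) : ∃ g, g ⋆ A = B := by
  induction h with
  | refl => exact ⟨1, conj_one _⟩
  | tail _ h ih =>
    obtain ⟨g, rfl⟩ := ih
    obtain ⟨x, -, e⟩ := exists_swap h.2.2
    exact ⟨x * g, by rw [← conj_conj, e]⟩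

theorem freach_map_conj (hS : IsRootSubgroupSet S) (h : ReflTransGen (FAdj S) A B) (g : G) :
    ReflTransGen (FAdj S) (g ⋆ A) (g ⋆ B) := by
  induction h with
  | refl => exact .refl
  | tail _ h ih => exact ih.tail ⟨rs_conj hS h.1 g, rs_conj hS h.2.1 g, r1_conj h.2.2 g⟩

theorem freach_conj (hS : IsRootSubgroupSet S) (hA : A ∈ S) (hP : HasP S A) (g : G) :
    ReflTransGen (FAdj S) A (g ⋆ A) := by
  induction g using rs_induction hS with
  | h1 => rw [conj_one]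
  | hm E hE e he g ih =>
    rw [← conj_conj]
    refine .trans ?_ (freach_map_conj hS ih e)
    by_cases hne : e ⋆ A = A
    · rw [hne]
    have hA' := rs_conj hS hA e
    rcases rs_tri hS hA hE with h | h | ⟨C, hC, h⟩
    · exact absurd (h.symm.conj_eq he) hne
    · exact freach_single hA hA' (r1_self_conj (r1_symm h) he fun h1 => hne (by rw [h1, conj_one]))
    obtain ⟨D, hD, hAD⟩ := id hP
    rcases line_opp hS hA hD hAD (h.line hS hA hP hC) ⟨hA', h.conj_le he⟩ ⟨hC, le_sup_right⟩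
      (h.conj_ne_right he) with h1 | h1
    · exact (freach_single hA hD hAD).tail ⟨hD, hA', r1_symm h1⟩
    · have h2 := r1_conj h1 e
      rw [h.cb.symm.conj_eq he] at h2
      exact (((freach_single hA hD hAD).tail ⟨hD, hC, r1_symm h1⟩).tail
        ⟨hC, rs_conj hS hD e, h2⟩).tail ⟨rs_conj hS hD e, hA', r1_symm (r1_conj hAD e)⟩

theorem class_hasP (hS : IsRootSubgroupClass S) (hA : A ∈ S) (hP : HasP S A) :
    ∀ B ∈ S, HasP S B := by
  intro B hB
  obtain ⟨g, rfl⟩ := hS.2.2 A hA B hB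
  exact hP.conj hS.1 g

theorem class_connected (hS : IsRootSubgroupClass S) (hA : A ∈ S) (hP : HasP S A) :
    IsConnectedFamily (FAdj S) S := by
  intro B hB C hC
  obtain ⟨g, rfl⟩ := hS.2.2 B hB C hC
  exact freach_conj hS.1 hB (class_hasP hS hA hP B hB) g

theorem class_of_connected (hS : IsRootSubgroupSet S) (hA : A ∈ S)
    (h : IsConnectedFamily (FAdj S) S) : IsRootSubgroupClass S :=
  ⟨hS, ⟨A, hA⟩, fun B hB C hC => by
    obtain ⟨g, e⟩ := freach_exists_conj (h B hB C hC)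
    exact ⟨g, e.symm⟩⟩

theorem hasP_of_freach (h : ReflTransGen (FAdj S) A B) (hne : B ≠ A) : HasP S A := by
  rcases h.cases_head with e | ⟨C, h, -⟩
  · exact absurd e.symm hne
  · exact ⟨C, h.2.1, h.2.2⟩

theorem line_third (hS : IsRootSubgroupSet S) (hA : A ∈ S) (hAP : HasP S A)
    (hB : B ∈ linePartners S A) (P Q : Subgroup G) :
    ∃ R ∈ membersIn S (A ⊔ B), R ≠ P ∧ R ≠ Q := by
  obtain ⟨D, hD, h⟩ := id hAP
  obtain ⟨C, hC, F, -, -, hc, e⟩ := line_special hS hA hD h hB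
  obtain ⟨f, hf, hf1⟩ := hc.symm.exists_left_ne_one
  rw [← e]
  have h1 := hc.conj_ne hf hf1
  have h2 := hc.conj_ne_right hf
  have h3 := hc.ne_left
  by_cases a1 : A ≠ P ∧ A ≠ Q
  · exact ⟨A, ⟨hA, le_sup_left⟩, a1⟩
  by_cases a2 : C ≠ P ∧ C ≠ Q
  · exact ⟨C, ⟨hC, le_sup_right⟩, a2⟩
  refine ⟨f ⋆ A, ⟨rs_conj hS hA f, hc.conj_le hf⟩, ?_, ?_⟩ <;> rintro rfl
  · have e1 : A = Q := by by_contra e; exact a1 ⟨h1.symm, e⟩
    have e2 : C = Q := by by_contra e; exact a2 ⟨h2.symm, e⟩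
    exact h3 (e1.trans e2.symm)
  · have e1 : A = P := by by_contra e; exact a1 ⟨e, h1.symm⟩
    have e2 : C = P := by by_contra e; exact a2 ⟨e, h2.symm⟩
    exact h3 (e1.trans e2.symm)

theorem freach_of_line (hS : IsRootSubgroupSet S) (hA : A ∈ S) (hAP : HasP S A) (hBP : HasP S B)
    (hB : B ∈ linePartners S A) : ReflTransGen (FAdj S) A B := by
  obtain ⟨R, hR, h1, h2⟩ := line_third hS hA hAP hB A B
  obtain ⟨D, hD, h⟩ := hAP
  obtain ⟨D', hD', h'⟩ := hBP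
  rcases line_opp hS hA hD h hB hR ⟨hB.1.1, le_sup_right⟩ h2 with h3 | h3
  swap
  · exact (freach_single hA hD h).tail ⟨hD, hB.1.1, r1_symm h3⟩
  rw [sup_comm] at hR
  rcases line_opp hS hB.1.1 hD' h' (line_symm hA hB) hR ⟨hA, le_sup_right⟩ h1 with h4 | h4
  · exact (((freach_single hA hD h).tail ⟨hD, hR.1, r1_symm h3⟩).tail ⟨hR.1, hD', h4⟩).tail
      ⟨hD', hB.1.1, r1_symm h'⟩
  · exact (freach_single hA hD' h4).tail ⟨hD', hB.1.1, r1_symm h'⟩

theorem CC.of_point (hc : CC A B C) (hS : IsRootSubgroupSet S) (hA : A ∈ S) (hP : HasP S A)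
    (hC : C ∈ S) (hQ : Q ∈ membersIn S (A ⊔ C)) (hne : Q ≠ C) : CC Q B C ∧ ∃ b ∈ B, b ⋆ A = Q := by
  rcases (hc.mem_line_iff hS hA hP hC).1 hQ with ⟨b, hb, rfl⟩ | e
  · exact ⟨hc.conj_cc hb, b, hb, rfl⟩
  · exact absurd e hne

/-- every point of a line is the centre of a root subgroup normalizing the line -/
theorem line_exists_cc (hS : IsRootSubgroupSet S) (hall : ∀ A ∈ S, HasP S A) (hA : A ∈ S)
    (hB : B ∈ linePartners S A) : ∃ E ∈ S, CC B E A := by
  have hBS := hB.1.1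
  have hB' := line_symm hA hB
  obtain ⟨D, hD, h⟩ := hall B hBS
  obtain ⟨C, hC, F, hF, -, hc, e⟩ := line_special hS hBS hD h hB'
  by_cases hCA : C = A
  · exact ⟨F, hF, hCA ▸ hc⟩
  obtain ⟨D', hD', h'⟩ := hall C hC
  obtain ⟨C', hC', F', hF', -, hc', e'⟩ := line_special hS hC hD' h'
    (line_symm hBS (hc.line hS hBS (hall B hBS) hC))
  have e2 : C ⊔ C' = B ⊔ A := by rw [e', sup_comm, e]
  by_cases hCA' : C' = A
  · subst hCA'
    exact ⟨F', hF', (hc'.of_point hS hC (hall C hC) hA ⟨hBS, e2 ▸ le_sup_left⟩ hB.1.2.1).1⟩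
  obtain ⟨-, f, hf, rfl⟩ := hc'.of_point hS hC (hall C hC) hC' ⟨hA, e2 ▸ le_sup_right⟩
    (Ne.symm hCA')
  refine ⟨f ⋆ F, rs_conj hS hF f, ((hc.conj f).of_point hS (rs_conj hS hBS f)
    ((hall B hBS).conj hS f) hA ⟨hBS, ?_⟩ hB.1.2.1).1⟩
  rw [← conj_sup, e, ← e2, hc'.conj_line hf, e2]
  exact le_sup_left

theorem line_move (hS : IsRootSubgroupSet S) (hall : ∀ A ∈ S, HasP S A) (hA : A ∈ S)
    (hB : B ∈ linePartners S A) (hP : P ∈ membersIn S (A ⊔ B)) (hQ : Q ∈ membersIn S (A ⊔ B))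
    (hR : R ∈ membersIn S (A ⊔ B)) (h1 : Q ≠ P) (h2 : R ≠ P) :
    ∃ E ∈ linePartners S P, E ≤ normalizer ((A ⊔ B : Subgroup G) : Set G) ∧
      ∃ e ∈ E, e ⋆ Q = R := by
  obtain ⟨e1, hl⟩ := line_points hS hA (hall A hA) hB hP hQ h1.symm
  obtain ⟨E, hE, hc⟩ := line_exists_cc hS hall hP.1 hl
  rw [sup_comm] at e1
  refine ⟨E, line_symm hE (hc.symm.line hS hE (hall E hE) hP.1), fun e he => ?_,
    (hc.of_point hS hQ.1 (hall Q hQ.1) hP.1 (e1 ▸ hR) h2).2⟩
  rw [← e1]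
  exact conj_eq_self_iff.1 (hc.conj_line he)

theorem nondeg_hasP (hS : IsRootSubgroupClass S) (hnd : IsNondegenerateRootSet S) :
    ∀ A ∈ S, HasP S A := by
  obtain ⟨A, hA, B, hB, h⟩ := hnd.2.1
  exact class_hasP hS hA ⟨B, hB, h⟩

theorem nondeg_exists_line (hS : IsRootSubgroupClass S) (hnd : IsNondegenerateRootSet S)
    (hA : A ∈ S) : ∃ B, B ∈ linePartners S A := by
  obtain ⟨A', hA', B', hB', h⟩ := hnd.2.2
  obtain ⟨g, rfl⟩ := hS.2.2 A' hA' A hA
  exact ⟨_, ((rs_cc_of_case hS.1 hA' hB' h).conj g).line hS.1 hA (nondeg_hasP hS hnd _ hA)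
    (rs_conj hS.1 h.1 g)⟩

theorem nondeg_exists_special (hS : IsRootSubgroupClass S) (hnd : IsNondegenerateRootSet S)
    (hA : A ∈ S) (hB : B ∈ S) (h : IsRankOnePair A B) :
    ∃ C ∈ S, ∃ F ∈ S, CC C B F ∧ CC A F C := by
  obtain ⟨B', hB'⟩ := nondeg_exists_line hS hnd hA
  obtain ⟨C, hC, F, hF, h1, h2, -⟩ := line_special hS.1 hA hB h hB'
  exact ⟨C, hC, F, hF, h1, h2⟩

theorem special_of_cc (h : IsRankOnePair A B) (h1 : CC C B F) (h2 : CC A F C) :
    IsSpecialRankOnePair A B := by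
  have hM : Cm (C ⊔ F) (C ⊔ F) :=
    (h1.aa.sup_right h1.ca.symm).sup_left (h1.ca.sup_right h1.cc)
  have hn : A ⊔ B ≤ normalizer ((C ⊔ F : Subgroup G) : Set G) := by
    refine sup_le (fun a ha => conj_eq_self_iff.1 ?_)
      fun b hb => conj_eq_self_iff.1 (h1.conj_line hb)
    rw [sup_comm]; exact h2.symm.conj_line ha
  refine special_of_quadratic_conj h (cm_self_iff.1 hM)
    (fun x hx m hm => (mem_normalizer_iff.1 (hn hx) m).1 hm) (fun a ha a' ha' m hm => ?_) ?_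
  · obtain ⟨c, hc, f, hf, rfl⟩ := h1.ca.symm.exists_mul hm
    have : ⁅a, c * f⁆ = ⁅a, f⁆ := by
      rw [commutatorElement_mul_right_eq_mul_conj, commutatorElement_eq_one_iff_mul_comm.2
        (h2.ca c hc a ha).symm, one_mul, h1.aa c hc _ (h2.mem ha hf), mul_inv_cancel_right]
    rw [this]
    exact (h2.ca _ (h2.mem ha hf) a' ha').symm
  · obtain ⟨f, hf, hf1⟩ := h1.exists_ne_one
    obtain ⟨c, hc, hc1⟩ := h1.exists_left_ne_one
    obtain ⟨b, hb, e⟩ := h1.symm.left c hc hc1 f hf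
    by_contra hn
    push Not at hn
    exact hf1 (h2.symm.eq_one_of_comm hf fun a ha =>
      e ▸ (hn b (mem_sup_right hb) a (mem_sup_left ha) c (mem_sup_left hc)).symm)

theorem nondeg_special (hS : IsRootSubgroupClass S) (hnd : IsNondegenerateRootSet S)
    (hA : A ∈ S) (hB : B ∈ S) (h : IsRankOnePair A B) : IsSpecialRankOnePair A B := by
  obtain ⟨C, -, F, -, h1, h2⟩ := nondeg_exists_special hS hnd hA hB h
  exact special_of_cc h h1 h2

theorem nondeg_econnected (hS : IsRootSubgroupClass S) (hnd : IsNondegenerateRootSet S) :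
    IsConnectedFamily (EAdj S S) S := by
  intro A hA B hB
  have hall := nondeg_hasP hS hnd
  have := class_connected hS hA (hall A hA) A hA B hB
  clear hB
  induction this with
  | refl => exact .refl
  | tail _ h ih =>
    obtain ⟨h1, h2, h3⟩ := h
    obtain ⟨C, hC, F, hF, k1, k2⟩ := nondeg_exists_special hS hnd h1 h2 h3
    exact ((ih.tail ⟨h1, hC, k2.line hS.1 h1 (hall _ h1) hC⟩).tail
      ⟨hC, hF, k1.line hS.1 hC (hall _ hC) hF⟩).tail
      ⟨hF, h2, line_symm h2 (k1.symm.line hS.1 h2 (hall _ h2) hF)⟩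

theorem line_conj (hS : IsRootSubgroupSet S) (hB : B ∈ linePartners S A) (g : G) :
    g ⋆ B ∈ linePartners S (g ⋆ A) := by
  refine ⟨⟨rs_conj hS hB.1.1 g, fun e => hB.1.2.1 (conj_inj.1 e), cm_iff.2 ((line_cm hB).conj g)⟩,
    fun C hC => hC.2, fun x hx hx1 => ?_, fun C hC D hD hne => ?_⟩
  · rw [← conj_sup, mem_conj] at hx
    obtain ⟨C, hC, hm⟩ := hB.2.2.1 _ hx (by
      intro e; apply hx1; rw [mul_assoc, inv_mul_eq_one] at e; simpa using e.symm)
    exact ⟨g ⋆ C, ⟨rs_conj hS hC.1 g, conj_sup g A B ▸ conj_mono g hC.2⟩, mem_conj.2 hm⟩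
  · have k : ∀ {C}, C ∈ membersIn S (g ⋆ A ⊔ g ⋆ B) → g⁻¹ ⋆ C ∈ membersIn S (A ⊔ B) :=
      fun hC => ⟨rs_conj hS hC.1 _, le_conj_iff_inv_conj_le.1 (conj_sup g A B ▸ hC.2)⟩
    have := hB.2.2.2 _ (k hC) _ (k hD) fun e => hne (conj_inj.1 e)
    rwa [← conj_inf, conj_eq_bot_iff] at this

/-- `G = ⟨Λ_A, B⟩` -/
theorem nondeg_eq_top (hS : IsRootSubgroupClass S) (hnd : IsNondegenerateRootSet S) (hA : A ∈ S)
    (hB : B ∈ S) (h : IsRankOnePair A B) {H : Subgroup G} (h1 : ∀ C ∈ linePartners S A, C ≤ H)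
    (h2 : B ≤ H) : H = ⊤ := by
  have hall := nondeg_hasP hS hnd
  have step : ∀ C ∈ linePartners S A, ∃ x ∈ H, x ⋆ A = C := by
    intro C hC
    obtain ⟨C₀, hC₀, F, hF, k1, k2, e⟩ := line_special hS.1 hA hB h hC
    have l0 := k2.line hS.1 hA (hall A hA) hC₀
    have hFH : F ≤ H := k1.le_sup.trans (sup_le (h1 _ l0) h2)
    have base : ∀ P ∈ membersIn S (A ⊔ C₀), P ≠ C₀ → ∃ x ∈ H, x ⋆ A = P := fun P hP hne => by
      obtain ⟨-, f, hf, e⟩ := k2.of_point hS.1 hA (hall A hA) hC₀ hP hne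
      exact ⟨f, hFH hf, e⟩
    by_cases hne : C = C₀
    swap
    · exact base C ⟨hC.1.1, e ▸ le_sup_right⟩ hne
    subst hne
    obtain ⟨R, hR, r1, r2⟩ := line_third hS.1 hA (hall A hA) hC A C
    obtain ⟨E, hE, -, y, hy, rfl⟩ := line_move hS.1 hall hA hC ⟨hA, le_sup_left⟩ hR
      ⟨hC.1.1, le_sup_right⟩ r1 hC.1.2.1
    obtain ⟨x, hx, rfl⟩ := base R hR r2
    exact ⟨y * x, mul_mem (h1 E hE hy) hx, by rw [conj_conj]⟩
  have hAH : A ≤ H := by
    obtain ⟨C, hC⟩ := nondeg_exists_line hS hnd hA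
    obtain ⟨x, hx, rfl⟩ := step C hC
    intro a ha
    have := h1 _ hC (conj_mem_conj.2 ha)
    simpa [mul_assoc] using mul_mem (mul_mem (inv_mem hx) this) hx
  refine rs_eq_top hS.1 fun P hP => ?_
  obtain ⟨x, hx, rfl⟩ : ∃ x ∈ H, x ⋆ A = P := by
    have := nondeg_econnected hS hnd A hA P hP
    clear hP
    induction this with
    | refl => exact ⟨1, one_mem _, conj_one _⟩
    | tail _ h ih =>
      obtain ⟨x, hx, rfl⟩ := ih
      have := line_conj hS.1 h.2.2 x⁻¹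
      rw [inv_conj_conj] at this
      obtain ⟨y, hy, e⟩ := step _ this
      exact ⟨x * y, mul_mem hx hy, by rw [← conj_conj, e, conj_inv_conj]⟩
  rw [conj_le_iff]
  exact fun a ha => mul_mem (mul_mem hx (hAH ha)) (inv_mem hx)

theorem r1_of_cc_cc (hS : IsRootSubgroupSet S) (hB : B ∈ S) (hD : D ∈ S) (h1 : CC A B C)
    (h2 : CC C D A) : IsRankOnePair B D := by
  have key : ∀ b ∈ B, b ≠ 1 → ¬ Cm D (b ⋆ D) := by
    intro b hb hb1 hc
    have : ∀ c ∈ C, ∀ d ∈ D, ⁅d, c⁆ * b = b * ⁅d, c⁆ := by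
      intro c hcC d hd
      obtain ⟨a, ha, e⟩ := h1.left b⁻¹ (inv_mem hb) (inv_ne_one.2 hb1) c⁻¹ (inv_mem hcC)
      have e1 : b⁻¹ * a * b = c * a := by
        rw [← inv_inv c, ← e]; group
      have e2 : (b * d * b⁻¹) * a * (b * d * b⁻¹)⁻¹ = (b * ⁅d, c⁆ * b⁻¹) * a := by
        calc _ = b * (d * (b⁻¹ * a * b) * d⁻¹) * b⁻¹ := by group
          _ = b * (⁅d, c⁆ * c * (d * a * d⁻¹)) * b⁻¹ := by rw [e1]; group
          _ = b * ⁅d, c⁆ * (c * a) * b⁻¹ := by rw [← h2.cb a ha d hd]; group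
          _ = _ := by rw [← e1]; group
      have hm := h2.mem' hcC hd
      have e3 : b * ⁅d, c⁆ * b⁻¹ = ⁅b, ⁅d, c⁆⁆ * ⁅d, c⁆ := by group
      have : ⁅b, ⁅d, c⁆⁆ = 1 := h2.eq_one_of_comm (h1.mem' hm hb) fun d' hd' => by
        have k1 := hc d' hd' _ (conj_mem_conj.2 hd)
        have k2 := h2.cb a ha d' hd'
        have k3 := h2.cb _ hm d' hd'
        have k4 : Commute d' ((b * d * b⁻¹) * a * (b * d * b⁻¹)⁻¹) :=
          (Commute.mul_right k1 k2.symm).mul_right (Commute.inv_right k1)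
        rw [e2, e3] at k4
        have k5 := (k4.mul_right (Commute.inv_right k2.symm)).mul_right (Commute.inv_right k3.symm)
        rw [mul_inv_cancel_right, mul_inv_cancel_right] at k5
        exact k5.symm
      exact (commutatorElement_eq_one_iff_mul_comm.1 this).symm
    obtain ⟨c, hcC, hc1⟩ := h1.exists_ne_one
    refine hb1 (h1.symm.eq_one_of_comm hb fun a ha => ?_)
    obtain ⟨d, hd, rfl⟩ := h2.symm.left c hcC hc1 a ha
    exact (this c hcC d hd).symm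
  obtain ⟨b, hb, hb1⟩ := rs_exists_ne_one hS hB
  rcases rs_tri hS hB hD with h | h | ⟨F, -, h⟩
  · exact absurd (by rw [h.conj_eq hb]; exact h2.bb) (key b hb hb1)
  · exact h
  · exact absurd (h.symm.cm_conj hb) (key b hb hb1)

/-- symmetry of conjugation invariant relations implying commutation -/
theorem theta_symm {r : Subgroup G → Subgroup G → Prop}
    (hr : ∀ A C g, r A C → r (g ⋆ A) (g ⋆ C)) (hAC : Cm A C) (h : r A C)
    (h1 : IsRankOnePair A B) (h2 : IsRankOnePair C B) : r C A := by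
  obtain ⟨d, hd, hd1⟩ := r1_exists_ne_one (r1_symm h1)
  obtain ⟨a, ha, ha1, e1⟩ := r1_cond (r1_symm h1) hd hd1
  obtain ⟨c, hc, hc1, e2⟩ := r1_cond (r1_symm h2) hd hd1
  obtain ⟨d', hd', hd1', e3⟩ := r1_cond h1 (inv_mem ha) (inv_ne_one.2 ha1)
  obtain ⟨c', hc', -, e4⟩ := r1_cond (r1_symm h2) hd' hd1'
  have k1 : Cm (c⁻¹ ⋆ B) (a⁻¹ ⋆ B) := by
    have := (hAC.conj d).conj (a⁻¹ * c⁻¹)
    rwa [← e1, ← e2, conj_conj, conj_conj, inv_mul_cancel_right, hAC _ (inv_mem ha) _ (inv_mem hc),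
      inv_mul_cancel_right] at this
  have k2 : Cm (c' ⋆ B) (a⁻¹ ⋆ B) := by rw [e4, ← e3]; exact hAC.symm.conj d'
  have e5 : c' = c⁻¹ := by
    by_contra hne
    have := k1.sup_left k2
    rw [sup_eq_of_mem_Om h2 (conj_mem_Om' (inv_mem hc)) (conj_mem_Om' hc')
      (fun e => hne (r1_conj_inj h2 (inv_mem hc) hc' e).symm)] at this
    exact r1_not_cm (r1_self_conj h1 (inv_mem ha) (inv_ne_one.2 ha1))
      (this.mono le_sup_right le_rfl)
  have k3 := hr _ _ (d⁻¹ * (a * c)) (hr _ _ d' h)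
  rw [e3, ← e4, e5, ← conj_conj, ← conj_conj d⁻¹, conj_conj (a * c), conj_conj (a * c),
    mul_inv_cancel_right, hAC a ha c hc, mul_inv_cancel_right, e1, e2, inv_conj_conj,
    inv_conj_conj] at k3
  exact k3

theorem r1_map_of_central {H : Type*} [Group H] (f : G →* H) (h : IsRankOnePair A B)
    (hk : ∀ x ∈ A ⊔ B, f x = 1 → x ∈ centralizer ((A ⊔ B : Subgroup G) : Set G)) :
    IsRankOnePair (A.map f) (B.map f) := by
  have key : ∀ {A B : Subgroup G}, IsRankOnePair A B →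
      (∀ x ∈ A ⊔ B, f x = 1 → x ∈ centralizer ((A ⊔ B : Subgroup G) : Set G)) →
      ∀ a ∈ A.map f, a ≠ 1 → ∃ b ∈ B.map f, b ≠ 1 ∧ b ⋆ A.map f = a ⋆ B.map f := by
    rintro A B h hk _ ⟨a, ha, rfl⟩ h1
    obtain ⟨b, hb, hb1, e⟩ := r1_cond h ha (fun e => h1 (by rw [e, map_one]))
    refine ⟨f b, mem_map_of_mem f hb, fun e => hb1 (r1_eq_one_of_commute (r1_symm h) hb
      fun a ha => hk b (mem_sup_right hb) e a (mem_sup_left ha)), ?_⟩
    rw [← map_conj, ← map_conj, e]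
  have := h.nilpotent_left
  have := h.nilpotent_right
  refine r1_mk (fun e => ?_) (Group.nilpotent_of_surjective _ (f.subgroupMap_surjective A))
    (Group.nilpotent_of_surjective _ (f.subgroupMap_surjective B)) (key h hk)
    (key (r1_symm h) (sup_comm A B ▸ hk))
  obtain ⟨b, hb, hb1⟩ := r1_exists_ne_one (r1_symm h)
  obtain ⟨a, ha, e1⟩ : f b ∈ A.map f := e ▸ mem_map_of_mem f hb
  have := hk (b * a⁻¹) (mul_mem (mem_sup_right hb) (mem_sup_left (inv_mem ha))) (by simp [e1])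
  refine hb1 (r1_eq_one (r1_symm h) hb ?_)
  rw [show b = b * a⁻¹ * a by group, ← conj_conj, conj_eq_self_of_mem ha]
  exact conj_eq_self_of_mem_centralizer (centralizer_sup_iff.1 this).1

/-- the image of a rank one pair -/
theorem r1_map_or_eq {H : Type*} [Group H] (f : G →* H) (h : IsRankOnePair A B) :
    IsRankOnePair (A.map f) (B.map f) ∨ A.map f = B.map f := by
  rcases normal_dichotomy h (N := f.ker ⊓ (A ⊔ B)) inf_le_right (fun x hx n hn =>
    mem_inf.2 ⟨f.normal_ker.conj_mem n hn.1 x, mul_mem (mul_mem hx hn.2) (inv_mem hx)⟩) with e | e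
  · right
    obtain ⟨x, hx, rfl⟩ := exists_swap h
    have := map_mono (f := f) e
    rw [Subgroup.map_sup (f.ker ⊓ _), (Subgroup.map_eq_bot_iff _).2 inf_le_left, bot_sup_eq] at this
    rw [map_conj, conj_eq_self_of_mem (this (mem_map_of_mem f hx))]
  · exact Or.inl (r1_map_of_central f h fun x hx h1 => e (mem_inf.2 ⟨h1, hx⟩))

end Cfsg.Lib.Root
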