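import Cfsg.Agent.Lib.Root.Abstract

/-!
Lines in sets of abstract root subgroups; chains `A - B - C` of commutator cases; the position
of a root subgroup opposite to a point of a line.
-/

set_option autoImplicit false

namespace Cfsg.Lib.Root

open Subgroup Cfsg.Lib.Transfer
open scoped Cfsg.Lib.Transfer commutatorElement

variable {G : Type*} [Group G] {A B C D E F P Q : Subgroup G} {S : Set (Subgroup G)}

theorem rs_eq_one_of_comm (hS : IsRootSubgroupSet S) (hD : D ∈ S) (h : IsRankOnePair A D)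
    (hP : P ∈ S) {a c d : G} (ha : a ∈ A) (ha1 : a ≠ 1) (hcA : ∀ x ∈ A, c * x = x * c)
    (hac : c * a ∈ P) (hd : d ∈ D) (hd1 : d ≠ 1) (hcd : c * d = d * c) : c = 1 :=
  rs_key_one hS hD h hP hcA (r1_comm_of_comm h hcA hd hd1 hcd) ha ha1 hac

theorem CC.eq_one_of_comm_partner (hc : CC A B C) (hS : IsRootSubgroupSet S) (hA : A ∈ S)
    (hD : D ∈ S) (h : IsRankOnePair A D) {c d : G} (hcC : c ∈ C) (hd : d ∈ D) (hd1 : d ≠ 1)
    (hcd : c * d = d * c) : c = 1 := by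
  obtain ⟨a, ha, ha1⟩ := r1_exists_ne_one h
  obtain ⟨b, -, e⟩ := hc.exists_conj ha ha1 hcC
  refine rs_eq_one_of_comm hS hD h (rs_conj hS hA b) ha ha1 (hc.ca c hcC) ?_ hd hd1 hcd
  rw [hc.ca c hcC a ha, ← e]
  exact conj_mem_conj.2 ha

theorem CC.eq_of_le (hc : CC A B C) (hS : IsRootSubgroupSet S) (hA : A ∈ S) (hP : HasP S A)
    (hC : C ∈ S) (hE : E ∈ S) (hle : E ≤ C) : E = C := by
  obtain ⟨D, hD, h⟩ := hP
  obtain ⟨e, he, he1⟩ := rs_exists_ne_one hS hE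
  obtain ⟨d, hd, hd1⟩ := rs_exists_ne_one hS hD
  have k := fun {c : G} (hcC : c ∈ C) => hc.eq_one_of_comm_partner hS hA hD h hcC hd hd1
  rcases rs_tri hS hC hD with h1 | h1 | ⟨F, -, h1⟩
  · exact absurd (k (hle he) (h1 e (hle he) d hd)) he1
  · exact rs_eq_of_mem hS hD h1 hE (hle he) he1 he
  rcases rs_tri hS hE hD with h2 | h2 | ⟨F', -, h2⟩
  · exact absurd (k (hle he) (h2 e he d hd)) he1
  · exact (rs_eq_of_mem hS hD h2 hC he he1 (hle he)).symm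
  refine le_antisymm hle fun c hcC => ?_
  obtain ⟨d', hd', e1⟩ := h1.right e (hle he) he1 _ (h1.mem hcC hd)
  obtain ⟨e', he', e2⟩ := h2.left d hd hd1 _ (e1 ▸ h2.mem he hd')
  have : e'⁻¹ * c = 1 := k (mul_mem (inv_mem (hle he')) hcC) (by
    calc e'⁻¹ * c * d = e'⁻¹ * ⁅c, d⁆ * d * c := by group
      _ = _ := by rw [← e2]; group)
  rw [← inv_mul_eq_one.1 this]; exact he'

theorem CC.mem_line_iff (hc : CC A B C) (hS : IsRootSubgroupSet S) (hA : A ∈ S) (hP : HasP S A)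
    (hC : C ∈ S) : E ∈ membersIn S (A ⊔ C) ↔ (∃ b ∈ B, b ⋆ A = E) ∨ E = C := by
  constructor
  · rintro ⟨hE, hle⟩
    by_cases h : E ≤ C
    · exact Or.inr (hc.eq_of_le hS hA hP hC hE h)
    left
    obtain ⟨x, hx, hxC⟩ := SetLike.not_le_iff_exists.1 h
    obtain ⟨a, ha, c, hcC, rfl⟩ := hc.ca.symm.exists_mul (hle hx)
    have ha1 : a ≠ 1 := by rintro rfl; exact hxC (by simpa using hcC)
    obtain ⟨b, hb, e⟩ := hc.exists_conj ha ha1 hcC
    exact ⟨b, hb, ((hP.conj hS b).eq_of_mem hS hE (conj_mem_conj.2 ha) (by simpa using ha1)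
      (e ▸ hx)).symm⟩
  · rintro (⟨b, hb, rfl⟩ | rfl)
    · exact ⟨rs_conj hS hA b, hc.conj_le hb⟩
    · exact ⟨hC, le_sup_right⟩

theorem CC.partition (hc : CC A B C) (hS : IsRootSubgroupSet S) (hA : A ∈ S) (hP : HasP S A)
    (hC : C ∈ S) : IsSubgroupPartition (A ⊔ C) (membersIn S (A ⊔ C)) := by
  refine ⟨fun E hE => hE.2, fun x hx _ => ?_, fun E hE E' hE' hne => ?_⟩
  · obtain ⟨a, ha, c, hcC, rfl⟩ := hc.ca.symm.exists_mul hx
    by_cases ha1 : a = 1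
    · exact ⟨C, ⟨hC, le_sup_right⟩, by simpa [ha1] using hcC⟩
    · obtain ⟨b, hb, e⟩ := hc.exists_conj ha ha1 hcC
      exact ⟨b ⋆ A, ⟨rs_conj hS hA b, hc.conj_le hb⟩, e ▸ conj_mem_conj.2 ha⟩
  · rw [eq_bot_iff]
    intro x hx
    by_contra h1
    rcases (hc.mem_line_iff hS hA hP hC).1 hE with ⟨b, -, rfl⟩ | rfl
    · exact hne ((hP.conj hS b).eq_of_mem hS hE'.1 hx.1 h1 hx.2).symm
    rcases (hc.mem_line_iff hS hA hP hC).1 hE' with ⟨b, -, rfl⟩ | rfl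
    · exact hne ((hP.conj hS b).eq_of_mem hS hE.1 hx.2 h1 hx.1)
    · exact hne rfl

theorem line_symm (hA : A ∈ S) (h : B ∈ linePartners S A) : A ∈ linePartners S B :=
  ⟨⟨hA, h.1.2.1.symm, by rw [commutator_comm]; exact h.1.2.2⟩, sup_comm A B ▸ h.2⟩

theorem line_cm (h : B ∈ linePartners S A) : Cm A B := cm_iff.1 h.1.2.2

theorem CC.line (hc : CC A B C) (hS : IsRootSubgroupSet S) (hA : A ∈ S) (hP : HasP S A)
    (hC : C ∈ S) : C ∈ linePartners S A :=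
  ⟨⟨hC, hc.ne_left.symm, cm_iff.2 hc.ca.symm⟩, hc.partition hS hA hP hC⟩

theorem CC.eq_one_of_comm' (hc : CC A B C) (hS : IsRootSubgroupSet S) (hA : A ∈ S)
    (hP : HasP S A) {a b : G} (ha : a ∈ A) (ha1 : a ≠ 1) (hb : b ∈ B) (e : a * b = b * a) :
    b = 1 := by
  by_contra hb1
  refine hc.conj_ne hb hb1 (hP.eq_of_mem hS (rs_conj hS hA b) ha ha1 ?_)
  rw [mem_conj, mul_assoc, e, inv_mul_cancel_left]; exact ha

theorem CC.conj_inj' (hc : CC A B C) {b b' : G} (hb : b ∈ B) (hb' : b' ∈ B)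
    (e : b ⋆ A = b' ⋆ A) : b = b' := by
  by_contra hne
  refine hc.conj_ne (mul_mem (inv_mem hb') hb) (fun h => hne (inv_mul_eq_one.1 h).symm) ?_
  rw [← conj_conj, e, inv_conj_conj]

theorem CC.conj_ne_right (hc : CC A B C) {b : G} (hb : b ∈ B) : b ⋆ A ≠ C :=
  (hc.conj_cc hb).ne_left

theorem CC.sup_points (hc : CC A B C) (hP : (∃ b ∈ B, b ⋆ A = P) ∨ P = C)
    (hQ : (∃ b ∈ B, b ⋆ A = Q) ∨ Q = C) (hne : P ≠ Q) : P ⊔ Q = A ⊔ C := by
  rcases hP with ⟨b, hb, rfl⟩ | rfl <;> rcases hQ with ⟨b', hb', rfl⟩ | rfl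
  · have : b' ⋆ A = (b' * b⁻¹) ⋆ (b ⋆ A) := by rw [conj_conj]; simp
    rw [this, (hc.conj_cc hb).sup_conj (mul_mem hb' (inv_mem hb))
      (fun e => hne (by rw [mul_inv_eq_one.1 e])), hc.conj_sup_eq hb]
  · exact hc.conj_sup_eq hb
  · rw [sup_comm]; exact hc.conj_sup_eq hb'
  · exact absurd rfl hne

/-! ### chains of commutator cases -/

theorem chain_pair (hS : IsRootSubgroupSet S) (hA : A ∈ S) (hC : C ∈ S) (hF : F ∈ S)
    (h : CC C B F) (hAC : Cm A C) {b : G} (hb : b ∈ B) (hb1 : b ≠ 1) :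
    Cm A (b ⋆ C) ∨ ∃ P ∈ S, CC A (b ⋆ C) P := by
  rcases rs_tri hS hA (rs_conj hS hC b) with h1 | h1 | h1
  · exact Or.inl h1
  · exfalso
    obtain ⟨f, hf, hf1⟩ := h.exists_ne_one
    obtain ⟨c, hc, rfl⟩ := h.symm.right b hb hb1 f hf
    have hc1 : c ≠ 1 := by rintro rfl; simp at hf1
    have := rs_key_one hS hA (r1_symm h1) hF (z := c⁻¹) (h.cm_conj hb _ (inv_mem hc))
      (hAC.symm _ (inv_mem hc)) (conj_mem_conj.2 hc) (by simpa using hc1)
      (by rw [h.cm_conj hb _ (inv_mem hc) _ (conj_mem_conj.2 hc)]; exact hf)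
    exact hc1 (inv_eq_one.1 this)
  · exact Or.inr h1

theorem chain_class_two (hS : IsRootSubgroupSet S) (hA : A ∈ S) (hC : C ∈ S) (hF : F ∈ S)
    (h : CC C B F) (hAC : Cm A C) {b : G} (hb : b ∈ B) (hb1 : b ≠ 1) :
    ⁅⁅A ⊔ b ⋆ C, A ⊔ b ⋆ C⁆, A ⊔ b ⋆ C⁆ = ⊥ := by
  rcases chain_pair hS hA hC hF h hAC hb hb1 with h1 | ⟨P, -, h1⟩
  · have h2 := rs_cm hS hA
    have h3 := rs_cm hS (rs_conj hS hC b)
    rw [cm_iff.2 ((h2.sup_right h1).sup_left (h1.symm.sup_right h3)), commutator_bot_left]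
  · exact h1.class_two

theorem chain_cm (h1 : CC A B E) (h2 : CC C B F) (hAC : Cm A C) {b : G} (hb : b ∈ B) :
    Cm (A ⊔ b ⋆ C) (b ⋆ A ⊔ C) :=
  ((h1.cm_conj hb).sup_right hAC).sup_left ((hAC.symm.conj b).sup_right (h2.cm_conj hb).symm)

theorem chain_sup (h1 : CC A B E) (h2 : CC C B F) {b : G} (hb : b ∈ B) (hb1 : b ≠ 1) :
    (A ⊔ b ⋆ C) ⊔ (b ⋆ A ⊔ C) = (A ⊔ E) ⊔ (C ⊔ F) := by
  rw [← h1.sup_conj hb hb1, ← h2.sup_conj hb hb1]
  ac_rfl

theorem commutator_closure_le {s : Set G} {L N : Subgroup G}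
    (hs : ∀ x ∈ s, x ∈ normalizer (N : Set G) ∧ ∀ l ∈ L, ⁅x, l⁆ ∈ N) : ⁅closure s, L⁆ ≤ N := by
  have : ∀ x ∈ closure s, x ∈ normalizer (N : Set G) ∧ ∀ l ∈ L, ⁅x, l⁆ ∈ N := by
    intro x hx
    induction hx using closure_induction with
    | mem x hx => exact hs x hx
    | one => exact ⟨one_mem _, fun l _ => by simp⟩
    | mul x y _ _ hx hy =>
      refine ⟨mul_mem hx.1 hy.1, fun l hl => ?_⟩
      rw [commutatorElement_mul_left_eq_conj_mul]
      exact mul_mem ((mem_normalizer_iff.1 hx.1 _).1 (hy.2 l hl)) (hx.2 l hl)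
    | inv x _ hx =>
      refine ⟨inv_mem hx.1, fun l hl => ?_⟩
      rw [commutatorElement_inv_left, ← commutatorElement_inv x l]
      simpa using (mem_normalizer_iff.1 (inv_mem hx.1) _).1 (inv_mem (hx.2 l hl))
  exact commutator_le.2 fun x hx => (this x hx).2

theorem chain_center (hS : IsRootSubgroupSet S) (hA : A ∈ S) (hC : C ∈ S) (hE : E ∈ S)
    (hF : F ∈ S) (h1 : CC A B E) (h2 : CC C B F) (hAC : Cm A C) :
    Cm ⁅(A ⊔ E) ⊔ (C ⊔ F), (A ⊔ E) ⊔ (C ⊔ F)⁆ ((A ⊔ E) ⊔ (C ⊔ F)) := by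
  obtain ⟨b, hb, hb1⟩ := h1.symm.exists_left_ne_one
  rw [← chain_sup h1 h2 hb hb1]
  have hX := cm_iff.1 (chain_class_two hS hA hC hF h2 hAC hb hb1)
  have hY := cm_iff.1 (chain_class_two hS hC hA hE h1 hAC.symm hb hb1)
  rw [sup_comm C] at hY
  have hXY := chain_cm h1 h2 hAC hb
  set X := A ⊔ b ⋆ C
  set Y := b ⋆ A ⊔ C
  have c : Cm (⁅X, X⁆ ⊔ ⁅Y, Y⁆) (X ⊔ Y) :=
    (hX.sup_right (hXY.mono (commutator_le_self _) le_rfl)).sup_left
      ((hXY.symm.mono (commutator_le_self _) le_rfl).sup_right hY)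
  refine c.mono ?_ le_rfl
  have nX := (c.symm.mono le_sup_left le_rfl).le_normalizer
  have nY := (c.symm.mono le_sup_right le_rfl).le_normalizer
  refine Core.commutator_sup_le nX nY ?_ ?_ <;> rw [commutator_comm] <;>
    refine Core.commutator_sup_le nX nY ?_ ?_
  · exact le_sup_left
  · rw [cm_iff.2 hXY.symm]; exact bot_le
  · rw [cm_iff.2 hXY]; exact bot_le
  · exact le_sup_right

theorem chain_nilpotent (hS : IsRootSubgroupSet S) (hA : A ∈ S) (hC : C ∈ S) (hE : E ∈ S)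
    (hF : F ∈ S) (h1 : CC A B E) (h2 : CC C B F) (hAC : Cm A C) :
    Group.IsNilpotent ↥(A ⊔ B ⊔ C) := by
  have hM := chain_center hS hA hC hE hF h1 h2 hAC
  set M := (A ⊔ E) ⊔ (C ⊔ F)
  have lA : A ≤ M := le_sup_left.trans le_sup_left
  have lE : E ≤ M := le_sup_right.trans le_sup_left
  have lC : C ≤ M := le_sup_left.trans le_sup_right
  have lF : F ≤ M := le_sup_right.trans le_sup_right
  set R := A ⊔ B ⊔ C
  have rA : A ≤ R := le_sup_left.trans le_sup_left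
  have rB : B ≤ R := le_sup_right.trans le_sup_left
  have rC : C ≤ R := le_sup_right
  have rE : E ≤ R := h1.le_sup.trans le_sup_left
  have rF : F ≤ R := h2.le_sup.trans (sup_le rC rB)
  have bot : ∀ {H K N : Subgroup G}, Cm H K → ⁅H, K⁆ ≤ N := fun h => (cm_iff.2 h).le.trans bot_le
  have supR : ∀ {H N : Subgroup G}, R ≤ normalizer (N : Set G) → ⁅H, A⁆ ≤ N → ⁅H, B⁆ ≤ N →
      ⁅H, C⁆ ≤ N → ⁅H, R⁆ ≤ N := by
    intro H N hn a b c
    rw [commutator_comm] at a b c ⊢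
    exact Core.commutator_sup_le ((sup_le rA rB).trans hn) (rC.trans hn)
      (Core.commutator_sup_le (rA.trans hn) (rB.trans hn) a b) c
  have cZ : Cm ⁅E, F⁆ R :=
    ((hM.mono (commutator_mono lE lF) lA).sup_right
      ((h1.cb.sup_left h2.cb).mono (commutator_le_sup _ _) le_rfl)).sup_right
      (hM.mono (commutator_mono lE lF) lC)
  have nZ := cZ.symm.le_normalizer
  have key : ∀ {A E F : Subgroup G}, CC A B E → Cm F B → A ≤ R → F ≤ R → A ≤ M → E ≤ M → F ≤ M →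
      ∀ {Z : Subgroup G}, R ≤ normalizer (Z : Set G) → ⁅E, F⁆ ≤ Z → ⁅⁅A, F⁆, R⁆ ≤ Z := by
    intro A' E' F' h hFB a1 a2 a3 a4 a5 Z hn hZ
    refine supR hn (bot (hM.mono (commutator_mono a3 a5) lA)) ?_
      (bot (hM.mono (commutator_mono a3 a5) lC))
    rw [Subgroup.commutator_def]
    refine commutator_closure_le ?_
    rintro _ ⟨a, ha, f, hf, rfl⟩
    refine ⟨hn (commutator_le_self R (commutator_mem_commutator (a1 ha) (a2 hf))), fun b hb => ?_⟩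
    have e1 : b * ⁅a, f⁆⁻¹ * b⁻¹ = ⁅⁅b, a⁆ * a, f⁆⁻¹ := by
      rw [← conj_inv, conjugate_commutatorElement, ← hFB f hf b hb]; group
    have e2 := hM _ (commutator_mem_commutator (a3 ha) (a5 hf)) _ (a4 (h.mem' ha hb))
    have e3 := hM _ (commutator_mem_commutator (a3 ha) (a5 hf)) _
      (commutator_le_self M (commutator_mem_commutator (a4 (h.mem' ha hb)) (a5 hf)))
    have e4 : ⁅⁅a, f⁆, b⁆ = ⁅⁅b, a⁆, f⁆⁻¹ := by
      rw [commutatorElement_def ⁅a, f⁆, mul_assoc, mul_assoc, ← mul_assoc b, e1,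
        commutatorElement_mul_left_eq_conj_mul, ← e2, mul_inv_cancel_right, e3]
      group
    rw [e4]
    exact inv_mem (hZ (commutator_mem_commutator (h.mem' ha hb) hf))
  have k3 : ⁅⁅A, F⁆ ⊔ ⁅C, E⁆ ⊔ ⁅E, F⁆, R⁆ ≤ ⁅E, F⁆ := by
    have le : ∀ {H K : Subgroup G}, H ≤ R → K ≤ R → ⁅H, K⁆ ≤ normalizer (⁅E, F⁆ : Subgroup G) :=
      fun a b => ((commutator_mono a b).trans (commutator_le_self R)).trans nZ
    refine Core.commutator_sup_le (sup_le (le rA rF) (le rC rE)) (le rE rF)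
      (Core.commutator_sup_le (le rA rF) (le rC rE) (key h1 h2.cb rA rF lA lE lF nZ le_rfl)
        (key h2 h1.cb rC rE lC lF lE nZ (commutator_comm F E).le)) (bot cZ)
  set T := ⁅A, F⁆ ⊔ ⁅C, E⁆ ⊔ ⁅E, F⁆
  have nT : R ≤ normalizer (T : Set G) :=
    le_normalizer_iff_commutator_le_left.2 (k3.trans le_sup_right)
  have k2 : ⁅E ⊔ F ⊔ T, R⁆ ≤ T := by
    refine Core.commutator_sup_le ((sup_le rE rF).trans nT) le_normalizer
      (Core.commutator_sup_le (rE.trans nT) (rF.trans nT) ?_ ?_) (k3.trans le_sup_right)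
    · exact supR nT (bot h1.ca) (bot h1.cb)
        ((commutator_comm E C).le.trans (le_sup_right.trans le_sup_left))
    · exact supR nT ((commutator_comm F A).le.trans (le_sup_left.trans le_sup_left)) (bot h2.cb)
        (bot h2.ca)
  have nU : R ≤ normalizer ((E ⊔ F ⊔ T : Subgroup G) : Set G) :=
    le_normalizer_iff_commutator_le_left.2 (k2.trans le_sup_right)
  have uE : E ≤ E ⊔ F ⊔ T := le_sup_left.trans le_sup_left
  have uF : F ≤ E ⊔ F ⊔ T := le_sup_right.trans le_sup_left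
  have k1 : ⁅R, R⁆ ≤ E ⊔ F ⊔ T :=
    Core.commutator_sup_le ((sup_le rA rB).trans nU) (rC.trans nU)
      (Core.commutator_sup_le (rA.trans nU) (rB.trans nU)
        (supR nU (bot h1.aa) (h1.eq.le.trans uE) (bot hAC))
        (supR nU (h1.symm.eq.le.trans uE) (bot h1.bb) (h2.symm.eq.le.trans uF)))
      (supR nU (bot hAC.symm) (h2.eq.le.trans uF) (bot h2.aa))
  refine (isNilpotent_iff_lowerCentralSeries _).2 ⟨4, eq_bot_iff.2 ?_⟩
  exact (commutator_mono ((commutator_mono ((commutator_mono k1 le_rfl).trans k2) le_rfl).trans k3)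
    le_rfl).trans (bot cZ)

/-! ### a root subgroup opposite to a point of a line -/

/-- `A` opposite `D`, `C` collinear with `A` and special to `D`: then `⁅A, ⁅C, D⁆⁆ = C`. -/
theorem cc_of_special (hS : IsRootSubgroupSet S) (hA : A ∈ S) (hD : D ∈ S) (hC : C ∈ S)
    (hF : F ∈ S) (h : IsRankOnePair A D) (hAC : Cm A C)
    (hl : ∀ a ∈ A, a ≠ 1 → ∀ c ∈ C, ∃ P ∈ S, c * a ∈ P) (hc : CC C D F) : CC A F C := by
  rcases rs_tri hS hA hF with h1 | h1 | ⟨Q, hQ, h1⟩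
  · exfalso
    obtain ⟨x, hx, e⟩ := exists_swap h
    have hn : A ⊔ D ≤ normalizer ((C ⊔ F : Subgroup G) : Set G) :=
      sup_le (hAC.sup_right h1).le_normalizer fun d hd => conj_eq_self_iff.1 (hc.conj_line hd)
    have := (hAC.sup_right h1).conj x
    rw [e, conj_eq_self_iff.2 (hn hx)] at this
    exact hc.not_cm (this.symm.mono le_sup_left le_rfl)
  · exfalso
    obtain ⟨f, hf, hf1⟩ := hc.exists_ne_one
    obtain ⟨c, hcC, hc1⟩ := hc.exists_left_ne_one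
    obtain ⟨d, -, e⟩ := hc.exists_conj hcC hc1 hf
    exact hc1 (rs_key_one hS hA (r1_symm h1) (rs_conj hS hC d) (hc.ca.symm c hcC)
      (hAC.symm c hcC) hf hf1 (e ▸ conj_mem_conj.2 hcC))
  · have hle : C ≤ Q := by
      intro c hcC
      by_cases hc1 : c = 1
      · rw [hc1]; exact one_mem _
      obtain ⟨d, hd, hd1⟩ := rs_exists_ne_one hS hD
      obtain ⟨a, ha, ha1, rfl⟩ := pt_surj h hd hd1
      have hf := hc.mem' hcC hd
      have hg := h1.mem ha hf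
      have e1 : (a * pt A D a) ⋆ A = D := by rw [← conj_conj, pt_conj h ha ha1, conj_inv_conj]
      set d := pt A D a
      have e2 : (a * d) * c * (a * d)⁻¹ = ⁅a, ⁅d, c⁆⁆ * c * ⁅d, c⁆ := by
        rw [mul_assoc ⁅a, _⁆, ← hc.ca _ hf c hcC]
        calc _ = a * ⁅d, c⁆ * (c * a⁻¹) := by group
          _ = _ := by rw [← hAC _ (inv_mem ha) c hcC]; group
      have zD : ∀ x ∈ D, (⁅a, ⁅d, c⁆⁆ * c) * x = x * (⁅a, ⁅d, c⁆⁆ * c) := by
        intro x hx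
        have := hAC.symm.conj (a * d) _ (conj_mem_conj.2 hcC) x (e1 ▸ hx)
        rw [e2, mul_assoc, hc.cb _ hf x hx, ← mul_assoc, ← mul_assoc, mul_left_inj] at this
        rw [this]
      have zA : ∀ x ∈ A ⊔ Q, (⁅a, ⁅d, c⁆⁆ * c) * x = x * (⁅a, ⁅d, c⁆⁆ * c) := by
        intro x hx
        have h2 : Cm C (A ⊔ Q) := (hAC.symm.sup_right hc.ca.symm).mono le_rfl
          (sup_le le_sup_left h1.le_sup)
        rw [mul_assoc, h2 c hcC x hx, ← mul_assoc, (h1.ca.sup_right h1.cc) _ hg x hx, mul_assoc]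
      obtain ⟨f', hf', e3⟩ := h1.exists_conj ha ha1 (inv_mem hg)
      obtain ⟨P, hP, hm⟩ := hl a ha ha1 c hcC
      have h3 := r1_conj h f'
      rw [hc.cb.conj_eq hf'] at h3
      have := rs_key_one hS hD h3 hP (fun x hx => zA x (h1.conj_le hf' hx)) zD
        (conj_mem_conj.2 ha) (by simpa using ha1) (by
          rw [e3, ← h1.ca _ (inv_mem hg) a ha, ← mul_assoc, zA _ (mem_sup_right (inv_mem hg)),
            inv_mul_cancel_left]
          exact hm)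
      rw [← inv_eq_of_mul_eq_one_right this]
      exact inv_mem hg
    rwa [h1.eq_of_le hS hA ⟨D, hD, h⟩ hQ hC hle]

theorem line_mul (hA : A ∈ S) (hB : B ∈ linePartners S A) {x : G}
    (hx : x ∈ A ⊔ B) : ∃ P ∈ S, P ≤ A ⊔ B ∧ x ∈ P := by
  by_cases h1 : x = 1
  · exact ⟨A, hA, le_sup_left, h1 ▸ one_mem _⟩
  · obtain ⟨P, hP, hx⟩ := hB.2.2.1 x hx h1
    exact ⟨P, hP.1, hP.2, hx⟩

theorem line_cm_sup (hS : IsRootSubgroupSet S) (hA : A ∈ S) (hB : B ∈ linePartners S A) :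
    Cm (A ⊔ B) (A ⊔ B) :=
  ((rs_cm hS hA).sup_right (line_cm hB)).sup_left ((line_cm hB).symm.sup_right (rs_cm hS hB.1.1))

theorem line_not_cm (hS : IsRootSubgroupSet S) (hA : A ∈ S) (hD : D ∈ S) (h : IsRankOnePair A D)
    (hB : B ∈ linePartners S A) (hP : P ∈ S) (hle : P ≤ A ⊔ B) : ¬ Cm P D := by
  intro hc
  obtain ⟨p, hp, hp1⟩ := rs_exists_ne_one hS hP
  obtain ⟨a, ha, ha1⟩ := r1_exists_ne_one h
  obtain ⟨Q, hQ, -, hm⟩ := line_mul hA hB (mul_mem (hle hp) (mem_sup_left ha))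
  exact hp1 (rs_key_one hS hD h hQ
    (fun x hx => line_cm_sup hS hA hB _ (hle hp) _ (mem_sup_left hx)) (hc p hp) ha ha1 hm)

/-- every line through a point `A` opposite to `D` has a point special to `D`. -/
theorem line_special (hS : IsRootSubgroupSet S) (hA : A ∈ S) (hD : D ∈ S) (h : IsRankOnePair A D)
    (hB : B ∈ linePartners S A) :
    ∃ C ∈ S, ∃ F ∈ S, CC C D F ∧ CC A F C ∧ A ⊔ C = A ⊔ B := by
  have key : ∀ C ∈ S, ∀ F ∈ S, C ≤ A ⊔ B → CC C D F → CC A F C := fun C hC F hF hle hc =>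
    cc_of_special hS hA hD hC hF h ((line_cm_sup hS hA hB).mono le_sup_left hle)
      (fun a ha _ c hcC => by
        obtain ⟨P, hP, -, hm⟩ := line_mul hA hB (mul_mem (hle hcC) (mem_sup_left ha))
        exact ⟨P, hP, hm⟩) hc
  rcases rs_tri hS hB.1.1 hD with h1 | h1 | ⟨F, hF, h1⟩
  · exact absurd h1 (line_not_cm hS hA hD h hB hB.1.1 le_sup_right)
  swap
  · exact ⟨B, hB.1.1, F, hF, h1, key B hB.1.1 F hF le_sup_right h1, rfl⟩
  obtain ⟨d, hd, hd1⟩ := rs_exists_ne_one hS hD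
  obtain ⟨a, ha, ha1, e1⟩ := r1_cond (r1_symm h) hd hd1
  obtain ⟨b, hb, hb1, e2⟩ := r1_cond (r1_symm h1) hd hd1
  have hcm : Cm D ((a⁻¹ * b) ⋆ D) := by
    have := ((line_cm hB).conj d).conj a⁻¹
    rwa [← e1, ← e2, inv_conj_conj, conj_conj] at this
  have hne : a⁻¹ * b ≠ 1 := fun e => hB.1.2.1
    (rs_eq_of_mem hS hD h hB.1.1 ha ha1 (inv_mul_eq_one.1 e ▸ hb))
  obtain ⟨P, hP, hle, hm⟩ := line_mul hA hB
    (mul_mem (mem_sup_left (inv_mem ha)) (mem_sup_right hb))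
  rcases rs_tri hS hP hD with h2 | h2 | ⟨F, hF, h2⟩
  · exact absurd h2 (line_not_cm hS hA hD h hB hP hle)
  · exact absurd hcm (r1_not_cm (r1_self_conj h2 hm hne))
  have hc := key P hP F hF hle h2
  refine ⟨P, hP, F, hF, h2, hc, le_antisymm (sup_le le_sup_left hle) (sup_le le_sup_left ?_)⟩
  obtain ⟨f, hf, e⟩ := hc.exists_conj ha ha1 hm
  rw [mul_inv_cancel_left] at e
  rw [← rs_eq_of_mem hS hD h1 (rs_conj hS hA f) hb hb1 (e ▸ conj_mem_conj.2 ha)]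
  exact hc.conj_le hf

theorem line_points (hS : IsRootSubgroupSet S) (hA : A ∈ S) (hAP : HasP S A)
    (hB : B ∈ linePartners S A) (hP : P ∈ membersIn S (A ⊔ B)) (hQ : Q ∈ membersIn S (A ⊔ B))
    (hne : P ≠ Q) : P ⊔ Q = A ⊔ B ∧ Q ∈ linePartners S P := by
  obtain ⟨D, hD, h⟩ := id hAP
  obtain ⟨C, hC, F, -, -, hc, e⟩ := line_special hS hA hD h hB
  have e1 : P ⊔ Q = A ⊔ B := by
    rw [← e] at hP hQ ⊢
    exact hc.sup_points ((hc.mem_line_iff hS hA hAP hC).1 hP) ((hc.mem_line_iff hS hA hAP hC).1 hQ)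
      hne
  exact ⟨e1, ⟨hQ.1, hne.symm, cm_iff.2 ((line_cm_sup hS hA hB).mono hP.2 hQ.2)⟩, e1 ▸ hB.2⟩

/-- `D` is opposite to all but at most one point of the line. -/
theorem line_opp (hS : IsRootSubgroupSet S) (hA : A ∈ S) (hD : D ∈ S) (h : IsRankOnePair A D)
    (hB : B ∈ linePartners S A) (hP : P ∈ membersIn S (A ⊔ B)) (hQ : Q ∈ membersIn S (A ⊔ B))
    (hne : P ≠ Q) : IsRankOnePair P D ∨ IsRankOnePair Q D := by
  rcases rs_tri hS hP.1 hD with h1 | h1 | ⟨E, hE, h1⟩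
  · exact absurd h1 (line_not_cm hS hA hD h hB hP.1 hP.2)
  · exact Or.inl h1
  rcases rs_tri hS hQ.1 hD with h2 | h2 | ⟨F, hF, h2⟩
  · exact absurd h2 (line_not_cm hS hA hD h hB hQ.1 hQ.2)
  · exact Or.inr h2
  exfalso
  refine r1_not_nilpotent h ?_ (le_sup_right.trans le_sup_left) (chain_nilpotent hS hP.1 hQ.1 hE hF
    h1 h2 ((line_cm_sup hS hA hB).mono hP.2 hQ.2))
  refine (le_sup_left.trans (line_points hS hA ⟨D, hD, h⟩ hB hP hQ hne).1.ge).trans ?_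
  exact sup_le (le_sup_left.trans le_sup_left) le_sup_right

end Cfsg.Lib.Root
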